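import Cfsg.Agent.Lib.ChevIsog.Data
import Cfsg.Agent.Lib.ChevAut.OutTypes

/-!
The exceptional isogeny permutes the root groups and keeps positivity; the node permutations of the
outer automorphisms of the types with two root lengths.
-/

set_option autoImplicit false
set_option linter.unusedSectionVars false

namespace CfsgLib.ChevIsog

open Cfsg.Lie CfsgLib.Chev CfsgLib.ChevAut
open CfsgLib.ChevGraph (gX gX_eq coe_gX)
open scoped Matrix

variable {D : ChevalleyDatum} {T : Tabs}

/-- the root permutation commutes with the reflections and keeps positivity -/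
structure RootOK (D : ChevalleyDatum) (E : IsoData) (π : Equiv.Perm (Fin D.rank)) : Prop where
  refl : ∀ i : Fin D.rank, ∀ s < D.nroots,
    bC E (D.reflectRoot i.val s) = D.reflectRoot (π i).val (bC E s)
  range : ∀ s < D.nroots, bC E s < D.nroots ∧ (D.nroots / 2 ≤ bC E s ↔ D.nroots / 2 ≤ s)

set_option maxRecDepth 4000 in
theorem b2_root : RootOK chevB2 b2Data b2Perm :=
  ⟨by decide +kernel, by decide +kernel⟩

set_option maxRecDepth 4000 in
theorem g2_root : RootOK chevG2 g2Data g2Perm :=
  ⟨by decide +kernel, by decide +kernel⟩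

set_option maxRecDepth 4000 in
theorem f4_root : RootOK chevF4 f4Data f4Perm :=
  ⟨by decide +kernel, by decide +kernel⟩

section
variable {F : Type*} [Field F] (hc : Checked D T) {E : IsoData} {π : Equiv.Perm (Fin D.rank)}
  (hI : IsoOK D T E π) (hR : RootOK D E π) [CharP F E.p] {α : MulAut ↥(D.group F)}
  (hα : ∀ r (hr : GenRoot D r) (t : F),
    α (gX hc (hr.lt hc) t) = gX hc ((bC_gen hI hr).lt hc) (t ^ expo E r))
include hc hI hR hα

theorem map_simple (i : Fin D.rank) (t : F) :
    α (gX hc (simple_lt hc i.2) t) = gX hc (simple_lt hc (π i).2) (t ^ expo E (D.simple i.val)) ∧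
    α (gX hc (neg_lt hc (simple_lt hc i.2)) t) =
      gX hc (neg_lt hc (simple_lt hc (π i).2)) (t ^ expo E (D.simple i.val)) := by
  constructor
  · rw [hα _ ⟨i, Or.inl rfl⟩ t]
    refine Subtype.ext ?_
    show elX D F (bC E (D.simple i.val)) (t ^ expo E (D.simple i.val)) = _
    rw [(hI.node i).1]
    rfl
  · rw [hα _ ⟨i, Or.inr rfl⟩ t]
    refine Subtype.ext ?_
    show elX D F (bC E (D.neg (D.simple i.val))) (t ^ expo E (D.neg (D.simple i.val))) = _
    rw [(hI.node i).2.1, show expo E (D.neg (D.simple i.val)) = expo E (D.simple i.val) by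
      rw [expo, expo, (hI.node i).2.2]]
    rfl

theorem map_elN (i : Fin D.rank) :
    ((α ⟨_, elN_mem_group hc (simple_lt hc i.2) 1⟩ : ↥(D.group F)) : GL D.Idx F) =
      elN D F (D.simple (π i).val) 1 := by
  have hp := simple_lt hc i.2
  have e : (⟨_, elN_mem_group hc hp 1⟩ : ↥(D.group F)) =
      gX hc hp 1 * gX hc (neg_lt hc hp) (-(1 : F)⁻¹) * gX hc hp 1 := rfl
  rw [e, map_mul, map_mul, (map_simple hc hI hR hα i 1).1, (map_simple hc hI hR hα i _).2, Subgroup.coe_mul,
    Subgroup.coe_mul, elN]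
  have hneg : (-(1 : F)⁻¹) ^ expo E (D.simple i.val) = -(1 : F)⁻¹ := by
    rw [inv_one, expo]
    split
    · haveI : Fact E.p.Prime := ⟨by rcases hI.prime with h | h <;> rw [h] <;> norm_num⟩
      exact neg_one_pow_expChar F E.p
    · exact pow_one _
  rw [hneg, one_pow]
  rfl

/-- every root group goes into a root group -/
theorem map_root {r : ℕ} (hr : r < D.nroots) (t : F) :
    ∃ u : F, ((α (gX hc hr t) : ↥(D.group F)) : GL D.Idx F) = elX D F (bC E r) u := by
  refine root_induction hc (P := fun r => ∀ (hr : r < D.nroots) (t : F),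
      ∃ u : F, ((α (gX hc hr t) : ↥(D.group F)) : GL D.Idx F) = elX D F (bC E r) u)
    (fun i h t => ⟨t ^ expo E (D.simple i.val), ?_⟩) (fun i s hs hP h t => ?_) hr hr t
  · have e := congrArg Subtype.val (map_simple hc hI hR hα i t).1
    rw [(hI.node i).1]
    exact e
  · obtain ⟨u, hu⟩ := hP hs ((eta D T i s : F) * t)
    have hn := map_elN hc hI hR hα i
    set n : ↥(D.group F) := ⟨_, elN_mem_group hc (simple_lt hc i.2) 1⟩ with hn'
    have e : gX hc h t = n * gX hc hs ((eta D T i s : F) * t) * n⁻¹ := Subtype.ext (by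
      show elX D F (sig D T i s) t = elN D F (D.simple i.val) 1 * elX D F s _ * (elN D F (D.simple i.val) 1)⁻¹
      rw [nOne_conj_elX hc i hs, ← mul_assoc]
      rcases eta_cast hc (F := F) i hs with g | g <;> simp [g])
    refine ⟨(eta D T (π i) (bC E s) : F) * u, ?_⟩
    rw [e, map_mul, map_mul, map_inv, Subgroup.coe_mul, Subgroup.coe_mul, Subgroup.coe_inv, hn, hu,
      nOne_conj_elX hc (π i) (hR.range s hs).1, ← reflectRoot_eq hc i hs, hR.refl i s hs,
      reflectRoot_eq hc (π i) (hR.range s hs).1]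

theorem smap (P : ℕ → Prop) (hP : ∀ r < D.nroots, P r → P (bC E r)) :
    SMap α (uGen D F P) (uGen D F P) := by
  have hle : uGen D F P ≤
      ((uGen D F P).comap ((D.group F).subtype.comp α.toMonoidHom)).map (D.group F).subtype := by
    rw [uGen_le_iff]
    intro r hr hPr t
    refine ⟨gX hc hr t, ?_, rfl⟩
    obtain ⟨u, hu⟩ := map_root hc hI hR hα hr t
    show ((α (gX hc hr t) : ↥(D.group F)) : GL D.Idx F) ∈ uGen D F P
    rw [hu]
    exact elX_mem_uGen (hR.range r hr).1 (hP r hr hPr) u
  intro x hx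
  obtain ⟨y, hy, e⟩ := hle hx
  rw [← Subtype.ext (show (y : GL D.Idx F) = x from e)]
  exact hy

theorem isogeny_good [Finite F] : Good α := by
  have hU : SMap α (Up D F) (Up D F) :=
    smap hc hI hR hα _ fun r hr h => (hR.range r hr).2.2 h
  have hV : SMap α (Um D F) (Um D F) :=
    smap hc hI hR hα _ fun r hr h => by
      have := (hR.range r hr).2
      omega
  have key : ∀ K : Subgroup (GL D.Idx F), SMap α K K → SMap α.symm K K := by
    intro K hK x hx
    let S : Set ↥(D.group F) := {y | (y : GL D.Idx F) ∈ K}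
    obtain ⟨y, hy, e⟩ := ((Set.toFinite S).injOn_iff_bijOn_of_mapsTo
      (fun y hy => hK y hy)).1 α.injective.injOn |>.surjOn hx
    rw [← e]
    show (α.symm (α y) : GL D.Idx F) ∈ K
    rw [MulEquiv.symm_apply_apply]
    exact hy
  exact ⟨hU, hV, key _ hU, key _ hV⟩

theorem perm_mem_range [Finite F] (hcomm : CommOne D T)
    (hD : D ∈ [chevG2, chevB2, chevD4, chevF4, chevE6, chevE7, chevE8]) :
    π ∈ (permHom (F := F) hc hcomm hD).range :=
  ⟨α, permHom_apply_eq hc hcomm hD ⟨1, by rw [map_one, one_mul]; exact isogeny_good hc hI hR hα,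
    by rw [map_one, one_mul]; exact fun i t => ⟨_, (map_simple hc hI hR hα i t).1⟩⟩⟩

end

theorem perfect_of_finite (F : Type*) [Field F] [Finite F] (p : ℕ) [Fact p.Prime] [CharP F p] (x : F) :
    ∃ y : F, y ^ p = x :=
  (Finite.injective_iff_surjective (f := fun y : F => y ^ p)).1 (frobenius_inj F p) x

/-- in the characteristic of the bond the exchange of the root lengths is realised -/
theorem flip_range_card {F : Type*} [Field F] [Finite F] (hc : Checked D T) (hcomm : CommOne D T)
    (hD : D ∈ [chevG2, chevB2, chevD4, chevF4, chevE6, chevE7, chevE8]) {E : IsoData}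
    {π : Equiv.Perm (Fin D.rank)} (hI : IsoOK D T E π) (hR : RootOK D E π) [CharP F E.p] (hne : π ≠ 1)
    (hD' : D ∈ [chevG2, chevB2, chevF4]) :
    Nat.card (permHom (F := F) hc hcomm hD).range = 2 := by
  refine le_antisymm (permHom_range_card_le hc hcomm hD (two_root_sym_card hD')) ?_
  haveI : Fact E.p.Prime := ⟨by rcases hI.prime with h | h <;> rw [h] <;> norm_num⟩
  obtain ⟨α, hα⟩ := exists_isogeny hc hcomm hI (perfect_of_finite F E.p)
  have hmem := perm_mem_range hc hI hR hα hcomm hD
  have : Nontrivial (permHom (F := F) hc hcomm hD).range :=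
    ⟨⟨⟨π, hmem⟩, 1, fun e => hne (congrArg Subtype.val e :)⟩⟩
  exact Finite.one_lt_card

/-- a nontrivial node permutation of an automorphism needs a field in which raising to the bond is
additive -/
theorem pow_additive {F : Type*} [Field F] [Finite F] (hc : Checked D T) (hcomm : CommOne D T)
    (hD : D ∈ [chevG2, chevB2, chevD4, chevF4, chevE6, chevE7, chevE8]) {k : ℕ} (hk : 0 < k)
    (hflip : FlipSpec D k) (h : (permHom (F := F) hc hcomm hD).range ≠ ⊥) :
    ∀ x y : F, (x + y) ^ k = x ^ k + y ^ k := by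
  obtain ⟨π, hπ, hne⟩ := (Subgroup.ne_bot_iff_exists_ne_one).1 h |> fun ⟨π, hne⟩ =>
    (⟨π.val, π.2, fun e => hne (Subtype.ext e)⟩ : ∃ π ∈ (permHom (F := F) hc hcomm hD).range, π ≠ 1)
  obtain ⟨θ, rfl⟩ := hπ
  obtain ⟨x, a, π', g, σ, hg, hgood, -, -, hrel⟩ := out_factor hc hcomm hD θ
  rw [permHom_apply_eq hc hcomm hD hrel] at hne
  obtain ⟨π'', b, f, hS, hadj, hrel'⟩ := exists_shape hc hcomm hgood
  obtain rfl : π'' = π' := PermOn.unique hc (fun i t => ⟨_, hS.pos i t⟩) (hg.permOn hc)
  rcases hflip π'' hadj with h1 | ⟨-, -, -, i₀, j₀, -, h1, h2⟩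
  · exact absurd h1 hne
  · exact (link_pow h1 (m := k) (by rw [h2, neg_neg]) hk (hrel' i₀ j₀)).2

/-- over other fields with at least three elements it is not -/
theorem range_eq_bot_g2 {F : Type*} [Field F] [Fintype F] {p : ℕ} [Fact p.Prime] [CharP F p] {T : Tabs}
    (hc : Checked chevG2 T) (hcomm : CommOne chevG2 T)
    (hD : chevG2 ∈ [chevG2, chevB2, chevD4, chevF4, chevE6, chevE7, chevE8]) (hp : p ≠ 3)
    (hq : 3 ≤ Fintype.card F) : (permHom (F := F) hc hcomm hD).range = ⊥ := by
  by_contra h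
  have hadd := pow_additive hc hcomm hD (by norm_num) flipSpec_g2 h
  have h6 : (2 : F) * 3 = 0 := by linear_combination hadd 1 1
  have h3 : (3 : F) ≠ 0 := by
    intro h3
    exact hp ((Nat.prime_dvd_prime_iff_eq Fact.out (by norm_num)).1
      ((CharP.cast_eq_zero_iff F p 3).1 (by exact_mod_cast h3)))
  have h2 : (2 : F) = 0 := (mul_eq_zero.1 h6).resolve_right h3
  have h01 : ∀ t : F, t = 0 ∨ t = 1 := by
    intro t
    have h1 := hadd t 1
    have h4 : (3 : F) * (t * (t + 1)) = 0 := by linear_combination h1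
    rcases mul_eq_zero.1 ((mul_eq_zero.1 h4).resolve_left h3) with h0 | h0
    · exact Or.inl h0
    · exact Or.inr (by linear_combination h0 - h2)
  classical
  have : Fintype.card F ≤ ({0, 1} : Finset F).card := by
    rw [← Finset.card_univ]
    exact Finset.card_le_card fun t _ => by rcases h01 t with rfl | rfl <;> simp
  have := this.trans Finset.card_le_two
  omega

theorem range_eq_bot_f4 {F : Type*} [Field F] [Fintype F] {p : ℕ} [Fact p.Prime] [CharP F p] {T : Tabs}
    (hc : Checked chevF4 T) (hcomm : CommOne chevF4 T)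
    (hD : chevF4 ∈ [chevG2, chevB2, chevD4, chevF4, chevE6, chevE7, chevE8]) (hp : p ≠ 2) :
    (permHom (F := F) hc hcomm hD).range = ⊥ := by
  by_contra h
  have hadd := pow_additive hc hcomm hD (by norm_num) flipSpec_f4 h
  have h2 : (2 : F) = 0 := by linear_combination hadd 1 1
  exact hp ((Nat.prime_dvd_prime_iff_eq Fact.out Nat.prime_two).1
    ((CharP.cast_eq_zero_iff F p 2).1 (by exact_mod_cast h2)))

end CfsgLib.ChevIsog
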