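import Cfsg.Agent.Lib.ChevField.Bruhat
import Cfsg.Agent.Lib.Chev.Structure
import Cfsg.Agent.Lib.Chevalley.GraphField
import Mathlib.Algebra.CharP.Basic

/-!
The representations of a Chevalley group in small characteristic on the ideal of the short roots of
its Lie algebra and on the quotient by it, and their faithfulness.
-/

set_option autoImplicit false
set_option linter.unusedSectionVars false

namespace CfsgLib.ChevIsog

open Cfsg.Lie CfsgLib.Chev
open CfsgLib.ChevGraph (gX coe_gX simpleGens group_le_closure_simpleGens)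
open scoped Matrix

/-- the data of an exceptional isogeny, on the numbers of the basis vectors -/
structure IsoData where
  /-- the characteristic -/
  p : ℕ
  /-- the vectors of the ideal of short roots -/
  sh : List Bool
  /-- the map of the basis vectors -/
  b : List ℕ

variable {D : ChevalleyDatum} {T : Tabs}

/-- whether a basis vector lies in the ideal -/
def shC (E : IsoData) (c : ℕ) : Bool := E.sh.getD c false

/-- the partner of a basis vector -/
def bC (E : IsoData) (c : ℕ) : ℕ := E.b.getD c 0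

/-- whether a basis vector lies in the ideal -/
def shI (D : ChevalleyDatum) (E : IsoData) (x : D.Idx) : Bool := shC E (cd D x)

/-- the fundamental roots and their negatives -/
def GenRoot (D : ChevalleyDatum) (r : ℕ) : Prop :=
  ∃ i : Fin D.rank, r = D.simple i.val ∨ r = D.neg (D.simple i.val)

theorem GenRoot.lt (hc : Checked D T) {r : ℕ} (h : GenRoot D r) : r < D.nroots := by
  obtain ⟨i, rfl | rfl⟩ := h
  · exact simple_lt hc i.2
  · exact neg_lt hc (simple_lt hc i.2)

/-- the entry of a divided power, by numbers of basis vectors -/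
noncomputable def entry (D : ChevalleyDatum) (T : Tabs) (k r x y : ℕ) : ℤ :=
  coeffAt (decCode D T (field ((tabK T k).get r) y)) x

theorem tabMat_eq_entry (k r : ℕ) (x y : D.Idx) : tabMat D T k r x y = entry D T k r (cd D x) (cd D y) :=
  rfl

/-- divisibility, as a Boolean -/
noncomputable def dvdB (p : ℕ) (z : ℤ) : Bool := Nat.beq (Nat.mod z.natAbs p) 0

theorem dvdB_iff {p : ℕ} {z : ℤ} : dvdB p z = true ↔ (p : ℤ) ∣ z := by
  rw [dvdB, nat_beq_iff, Int.natCast_dvd, Nat.dvd_iff_mod_eq_zero]
  rfl

/-- the ideal is stable under the generators -/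
noncomputable def invCheck (D : ChevalleyDatum) (T : Tabs) (E : IsoData) (r : ℕ) : Bool :=
  allNat 3 fun k => allNat (D.nroots + D.rank) fun x => allNat (D.nroots + D.rank) fun y =>
    cond (!shC E x && shC E y) (dvdB E.p (entry D T (k + 1) r x y)) true

theorem invCheck_spec {E : IsoData} {r : ℕ} (h : invCheck D T E r = true) {k : ℕ}
    (hk : k = 1 ∨ k = 2 ∨ k = 3) {x y : D.Idx} (hx : shI D E x = false) (hy : shI D E y = true) :
    (E.p : ℤ) ∣ tabMat D T k r x y := by
  rw [invCheck, allNat_iff] at h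
  have h := h (k - 1) (by omega)
  rw [allNat_iff] at h
  have h := h (cd D x) (cd_lt x)
  rw [allNat_iff] at h
  have h := h (cd D y) (cd_lt y)
  rw [show shC E (cd D x) = false from hx, show shC E (cd D y) = true from hy,
    show k - 1 + 1 = k by omega] at h
  exact dvdB_iff.1 h

/-- the part of the checks about the ideal -/
structure IdealOK (D : ChevalleyDatum) (T : Tabs) (E : IsoData) : Prop where
  inv : ∀ r, GenRoot D r → invCheck D T E r = true
  span : ∀ bv : Bool, ∀ i : Fin D.rank, ∃ r < D.nroots, ∃ s < D.nroots, ∃ k < 4, k ≠ 0 ∧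
    shC E r = bv ∧ shC E s = bv ∧
      ∀ j < D.rank, wt D T r j - wt D T s j = if j = i.val then (k : ℤ) else 0

section
variable {F : Type*} [Field F] (hc : Checked D T) {E : IsoData} (hok : IdealOK D T E) [CharP F E.p]
include hc hok

theorem elX_vanish {r : ℕ} (hr : GenRoot D r) (t : F) {x y : D.Idx} (hx : shI D E x = false)
    (hy : shI D E y = true) : ((elX D F r t : GL D.Idx F) : Matrix D.Idx D.Idx F) x y = 0 := by
  have hxy : x ≠ y := fun e => by rw [e, hy] at hx; exact Bool.noConfusion hx
  have hz : ∀ k, k = 1 ∨ k = 2 ∨ k = 3 → (Int.castRingHom F) (tabMat D T k r x y) = 0 := fun k hk => by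
    rw [eq_intCast, CharP.intCast_eq_zero_iff F E.p]
    exact invCheck_spec (hok.inv r hr) hk hx hy
  rw [coe_elX hc F (hr.lt hc), xMat_eq hc F (hr.lt hc)]
  simp only [xTab, Matrix.add_apply, Matrix.smul_apply, Matrix.map_apply, smul_eq_mul,
    hz 1 (Or.inl rfl), hz 2 (Or.inr (Or.inl rfl)), hz 3 (Or.inr (Or.inr rfl)), mul_zero,
    Matrix.one_apply_ne hxy, add_zero]

theorem group_vanish {g : GL D.Idx F} (hg : g ∈ D.group F) {x y : D.Idx} (hx : shI D E x = false)
    (hy : shI D E y = true) : (g : Matrix D.Idx D.Idx F) x y = 0 := by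
  have key : ∀ g ∈ Subgroup.closure (simpleGens D F), ∀ x y : D.Idx, shI D E x = false →
      shI D E y = true → (g : Matrix D.Idx D.Idx F) x y = 0 ∧
        ((g⁻¹ : GL D.Idx F) : Matrix D.Idx D.Idx F) x y = 0 := by
    intro g hg
    induction hg using Subgroup.closure_induction with
    | mem z hz =>
        intro x y hx hy
        obtain ⟨i, t, rfl | rfl⟩ := hz
        · rw [elX_inv hc F (simple_lt hc i.2)]
          exact ⟨elX_vanish hc hok ⟨i, Or.inl rfl⟩ t hx hy, elX_vanish hc hok ⟨i, Or.inl rfl⟩ _ hx hy⟩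
        · rw [elX_inv hc F (neg_lt hc (simple_lt hc i.2))]
          exact ⟨elX_vanish hc hok ⟨i, Or.inr rfl⟩ t hx hy, elX_vanish hc hok ⟨i, Or.inr rfl⟩ _ hx hy⟩
    | one =>
        intro x y hx hy
        have hxy : x ≠ y := fun e => by rw [e, hy] at hx; exact Bool.noConfusion hx
        rw [inv_one, Units.val_one, Matrix.one_apply_ne hxy]
        exact ⟨rfl, rfl⟩
    | mul a b _ _ ha hb =>
        intro x y hx hy
        rw [mul_inv_rev, Units.val_mul, Units.val_mul, Matrix.mul_apply, Matrix.mul_apply]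
        constructor <;> refine Finset.sum_eq_zero fun z _ => ?_ <;> cases hz : shI D E z
        · rw [(hb z y hz hy).1, mul_zero]
        · rw [(ha x z hx hz).1, zero_mul]
        · rw [(ha z y hz hy).2, mul_zero]
        · rw [(hb x z hx hz).2, zero_mul]
    | inv a _ ha =>
        intro x y hx hy
        rw [inv_inv]
        exact ⟨(ha x y hx hy).2, (ha x y hx hy).1⟩
  exact (key g (group_le_closure_simpleGens hc hg) x y hx hy).1

/-- the diagonal block of the ideal (`true`) or of the quotient (`false`) of a product -/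
theorem block_mul {g g' : GL D.Idx F} (hg : g ∈ D.group F) (hg' : g' ∈ D.group F) {x y : D.Idx}
    {bv : Bool} (hx : shI D E x = bv) (hy : shI D E y = bv) :
    ((g * g' : GL D.Idx F) : Matrix D.Idx D.Idx F) x y =
      ∑ z : {z : D.Idx // shI D E z = bv}, (g : Matrix D.Idx D.Idx F) x z * (g' : Matrix D.Idx D.Idx F) z y := by
  rw [Units.val_mul, Matrix.mul_apply, ← Fintype.sum_subtype_add_sum_subtype (fun z => shI D E z = bv),
    Finset.sum_eq_zero (s := (Finset.univ : Finset {z : D.Idx // ¬ shI D E z = bv})) fun z _ => ?_,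
    add_zero]
  cases bv
  · rw [group_vanish hc hok hg hx (Bool.not_eq_false _ ▸ z.2), zero_mul]
  · rw [group_vanish hc hok hg' (Bool.not_eq_true _ ▸ z.2) hy, mul_zero]

/-- the representation on the ideal (`true`) or on the quotient (`false`) -/
noncomputable def blk (bv : Bool) :
    ↥(D.group F) →* Matrix {z : D.Idx // shI D E z = bv} {z : D.Idx // shI D E z = bv} F where
  toFun g := ((g : GL D.Idx F) : Matrix D.Idx D.Idx F).submatrix Subtype.val Subtype.val
  map_one' := by
    ext x y
    simp [Matrix.one_apply, Subtype.ext_iff]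
  map_mul' g g' := by
    ext x y
    rw [Matrix.submatrix_apply, Subgroup.coe_mul, block_mul hc hok g.2 g'.2 x.2 y.2, Matrix.mul_apply]
    rfl

theorem blk_apply (bv : Bool) (g : ↥(D.group F)) (x y : {z : D.Idx // shI D E z = bv}) :
    blk hc hok bv g x y = ((g : GL D.Idx F) : Matrix D.Idx D.Idx F) x.val y.val := rfl

end

section
variable {F : Type*} [Field F] (hc : Checked D T)
include hc

theorem nProd_col (L : List (Fin D.rank)) {s : ℕ} (hs : s < D.nroots) :
    ∃ c : F, c ≠ 0 ∧ ((nProd D F L : GL D.Idx F) : Matrix D.Idx D.Idx F) *ᵥ Pi.single (Sum.inr ⟨s, hs⟩) 1 =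
      c • Pi.single (Sum.inr ⟨sigs D T L s, sigs_lt hc L hs⟩) 1 := by
  induction L with
  | nil => exact ⟨1, one_ne_zero, by rw [nProd_nil, Units.val_one, Matrix.one_mulVec, one_smul]; rfl⟩
  | cons i L ih =>
      obtain ⟨c, hc0, h⟩ := ih
      have hu := sigs_lt hc L hs
      refine ⟨c * (eta D T i (sigs D T L s) : F), mul_ne_zero hc0 ?_, ?_⟩
      · rcases eta_cast hc (F := F) i hu with e | e <;> simp [e]
      rw [nProd_cons, Units.val_mul, ← Matrix.mulVec_mulVec, h, Matrix.mulVec_smul, mul_smul]
      congr 1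
      rw [Matrix.mulVec_single_one]
      funext x
      have hx := congrFun (eta_spec hc i hu).2 x
      rw [show eVec D (sigs D T L s) = Pi.single (Sum.inr (⟨_, hu⟩ : Fin D.nroots)) 1 from
          eVec_eq (D := D) ⟨_, hu⟩,
        Matrix.mulVec_single_one,
        show eVec D (sig D T i (sigs D T L s)) = Pi.single (Sum.inr (⟨_, sig_lt hc i hu⟩ : Fin D.nroots)) 1
          from eVec_eq (D := D) ⟨_, sig_lt hc i hu⟩] at hx
      rw [Matrix.col_apply, coe_elN_simple_one hc i, Matrix.map_apply]
      rw [Matrix.col_apply] at hx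
      rw [hx]
      simp only [sigs_cons, Pi.smul_apply, Pi.single_apply, smul_eq_mul]
      split <;> simp

theorem key_le_of_raises {g : GL D.Idx F} (hg : g ∈ uGen D F (fun r => D.nroots / 2 ≤ r)) {x y : D.Idx}
    (h : (g : Matrix D.Idx D.Idx F) x y ≠ 0) : keyLin D (wI D T y) ≤ keyLin D (wI D T x) := by
  have hR : Raises D T (keyLin D) 0 (g : Matrix D.Idx D.Idx F) :=
    raises_uGen hc keyLin_add keyLin_smul le_rfl (fun r hr hp => le_of_lt ((key_pos_iff hc hr).2 hp)) hg
  by_cases hxy : x = y
  · rw [hxy]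
  · have := hR x y (by rwa [Matrix.one_apply_ne hxy])
    omega

end

section
variable {F : Type*} [Field F] (hc : Checked D T) (hcomm : CommOne D T) {E : IsoData}
  (hok : IdealOK D T E) [CharP F E.p]
include hc hcomm hok

theorem mem_borel_of_blk_eq_one (bv : Bool) {g : ↥(D.group F)} (hg : blk hc hok bv g = 1) :
    (g : GL D.Idx F) ∈ D.borelSubgroup F := by
  obtain ⟨L, u, h, v, hu, hh, hv, e⟩ := ChevField.exists_bruhat hc hcomm g.2
  have hv' : v⁻¹ ∈ uGen D F (fun r => D.nroots / 2 ≤ r) := inv_mem (uGen_mono (fun r _ hr => hr.1) hv)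
  have hu' : h⁻¹ * u⁻¹ * h ∈ uGen D F (fun r => D.nroots / 2 ≤ r) := diag_conj_mem' hc _ hh (inv_mem hu)
  have hn : nProd D F L = (h⁻¹ * u⁻¹ * h) * h⁻¹ * (g : GL D.Idx F) * v⁻¹ := by rw [e]; group
  obtain ⟨c, hcd⟩ := (mem_diagonal hc).1 (inv_mem hh)
  have hd : ((h⁻¹ : GL D.Idx F) : Matrix D.Idx D.Idx F) = Matrix.diagonal fun x =>
      (chi (hPar D F c) (wI D T x) : F) := by rw [← hcd, coe_torus]
  have huG : (h⁻¹ * u⁻¹ * h) * h⁻¹ ∈ D.group F :=
    mul_mem (pos_le_group hc hu') (diagonal_le_group hc (inv_mem hh))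
  -- the monomial part is triangular on the block
  have htri : ∀ x y : D.Idx, shI D E x = bv → shI D E y = bv →
      ((nProd D F L : GL D.Idx F) : Matrix D.Idx D.Idx F) x y ≠ 0 →
      keyLin D (wI D T y) ≤ keyLin D (wI D T x) := by
    intro x y hx hy hne
    rw [hn, block_mul hc hok (mul_mem huG g.2) (pos_le_group hc hv') hx hy] at hne
    obtain ⟨z, -, hz⟩ := Finset.exists_ne_zero_of_sum_ne_zero hne
    obtain ⟨hz1, hz2⟩ := mul_ne_zero_iff.1 hz
    refine le_trans (key_le_of_raises hc hv' hz2) ?_
    rw [block_mul hc hok huG g.2 hx z.2, Finset.sum_eq_single z] at hz1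
    · have h1 := left_ne_zero_of_mul hz1
      rw [Units.val_mul (h⁻¹ * u⁻¹ * h), hd, Matrix.mul_diagonal] at h1
      exact key_le_of_raises hc hu' (left_ne_zero_of_mul h1)
    · intro w _ hw
      have := congrFun (congrFun hg w) z
      rw [blk_apply, Matrix.one_apply_ne hw] at this
      rw [this, mul_zero]
    · simp
  -- so it fixes the roots of the block
  classical
  let S : Finset ℕ := (Finset.range D.nroots).filter fun s => shC E s = bv
  have hnG := monomial_le_group hc (nProd_mem_monomial hc (F := F) L)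
  have hS : ∀ s ∈ S, sigs D T L s ∈ S ∧ keyLin D (rv D T s) ≤ keyLin D (rv D T (sigs D T L s)) := by
    intro s hs
    obtain ⟨hs0, hsb⟩ := Finset.mem_filter.1 hs
    replace hs : s < D.nroots := Finset.mem_range.1 hs0
    clear hs0
    have hu := sigs_lt hc L hs
    obtain ⟨c, hc0, hcol⟩ := nProd_col hc (F := F) L hs
    have hne : ((nProd D F L : GL D.Idx F) : Matrix D.Idx D.Idx F)
        (Sum.inr ⟨_, hu⟩) (Sum.inr ⟨s, hs⟩) = c := by
      have := congrFun hcol (Sum.inr ⟨_, hu⟩)
      rwa [Matrix.mulVec_single_one, Matrix.col_apply, Pi.smul_apply, Pi.single_eq_same, smul_eq_mul,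
        mul_one] at this
    have hinv : ((nProd D F L : GL D.Idx F)⁻¹ : GL D.Idx F) ∈ D.group F := inv_mem hnG
    have hb : shC E (sigs D T L s) = bv := by
      cases bv
      · by_contra hcon
        rw [Bool.not_eq_false] at hcon
        obtain ⟨c', hc0', hcol'⟩ := nProd_col hc (F := F) L.reverse hu
        rw [show (⟨sigs D T L.reverse (sigs D T L s), sigs_lt hc L.reverse hu⟩ : Fin D.nroots) = ⟨s, hs⟩
          from Fin.ext (sigs_reverse hc L hs)] at hcol'
        have := congrFun hcol' (Sum.inr ⟨s, hs⟩)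
        rw [Matrix.mulVec_single_one, Matrix.col_apply, Pi.smul_apply, Pi.single_eq_same, smul_eq_mul,
          mul_one] at this
        exact hc0' (this.symm.trans (group_vanish hc hok (monomial_le_group hc
          (nProd_mem_monomial hc (F := F) L.reverse)) (show shI D E (Sum.inr ⟨s, hs⟩) = false from hsb) hcon))
      · by_contra hcon
        rw [Bool.not_eq_true] at hcon
        exact hc0 (hne.symm.trans (group_vanish hc hok hnG hcon (show shI D E (Sum.inr ⟨s, hs⟩) = true from hsb)))
    refine ⟨Finset.mem_filter.2 ⟨Finset.mem_range.2 hu, hb⟩, ?_⟩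
    exact htri (Sum.inr ⟨_, hu⟩) (Sum.inr ⟨s, hs⟩) hb hsb (by rw [hne]; exact hc0)
  have hinj : Set.InjOn (sigs D T L) ↑S := fun a ha b hb hab =>
    sigs_injOn hc L (Finset.mem_range.1 (Finset.mem_filter.1 ha).1)
      (Finset.mem_range.1 (Finset.mem_filter.1 hb).1) hab
  have himg : S.image (sigs D T L) = S :=
    Finset.eq_of_subset_of_card_le (fun r hr => by
      obtain ⟨s, hs, rfl⟩ := Finset.mem_image.1 hr
      exact (hS s hs).1) (by rw [Finset.card_image_of_injOn hinj])
  have hsum : ∑ s ∈ S, keyLin D (rv D T s) = ∑ s ∈ S, keyLin D (rv D T (sigs D T L s)) := by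
    conv_lhs => rw [← himg]
    exact Finset.sum_image hinj
  have hfix : ∀ s ∈ S, sigs D T L s = s := fun s hs => by
    have e := (Finset.sum_eq_sum_iff_of_le fun r hr => (hS r hr).2).1 hsum s hs
    have hs' := Finset.mem_range.1 (Finset.mem_filter.1 hs).1
    rw [keyLin_rv, keyLin_rv] at e
    rcases lt_trichotomy (sigs D T L s) s with h1 | h1 | h1
    · exact absurd e (keyZ_strictMono hc h1 hs').ne'
    · exact h1
    · exact absurd e (keyZ_strictMono hc h1 (sigs_lt hc L hs')).ne
  -- hence every fundamental root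
  have hsimple : ∀ i : Fin D.rank, sigs D T L (D.simple i.val) = D.simple i.val := by
    intro i
    obtain ⟨r, hr, s, hs, k, -, hk, hrb, hsb, hw⟩ := hok.span bv i
    have he : rv D T r + (-1 : ℤ) • rv D T s = (k : ℤ) • rv D T (D.simple i.val) := by
      funext j
      have := hw j.val j.2
      simp only [rv, Pi.add_apply, Pi.smul_apply, smul_eq_mul, wt_simple hc i.2 j.2]
      simp only [eq_comm (a := (i : ℕ)) (b := (j : ℕ))] at this ⊢
      split_ifs at this ⊢ <;> omega
    have e1 : ∀ a ∈ S, refls D L (rv D T a) = rv D T a := fun a ha => by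
      rw [← rv_sigs hc L (Finset.mem_range.1 (Finset.mem_filter.1 ha).1), hfix a ha]
    have e2 := congrArg (refls D L) he
    rw [refls_add, refls_smul, refls_smul, e1 r (Finset.mem_filter.2 ⟨Finset.mem_range.2 hr, hrb⟩),
      e1 s (Finset.mem_filter.2 ⟨Finset.mem_range.2 hs, hsb⟩), he] at e2
    have e3 := smul_right_injective (Fin D.rank → ℤ) (show (k : ℤ) ≠ 0 by exact_mod_cast hk) e2
    refine rv_inj hc (sigs_lt hc L (simple_lt hc i.2)) (simple_lt hc i.2) ?_
    rw [rv_sigs hc L (simple_lt hc i.2)]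
    exact e3.symm
  have hnH : nProd D F L ∈ D.diagonalSubgroup F :=
    nProd_mem_of_pos hc L fun i => by rw [hsimple i]; exact half_le_simple hc i.2
  rw [e]
  exact mul_mem (mul_mem (mul_mem (pos_le_borel hc hu) (diagonal_le_borel hc hh))
    (diagonal_le_borel hc hnH)) (pos_le_borel hc (inv_mem_iff.1 hv'))

/-- both representations are faithful -/
theorem blk_injective (bv : Bool) : Function.Injective (blk (F := F) hc hok bv) := by
  have hK : ∀ g : ↥(D.group F), blk hc hok bv g = 1 → g = 1 := by
    intro g hg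
    let f := (blk (F := F) hc hok bv).toHomUnits
    have hle : f.ker ≤ (D.borelSubgroup F).subgroupOf (D.group F) := by
      intro x hx
      rw [Subgroup.mem_subgroupOf]
      exact mem_borel_of_blk_eq_one hc hcomm hok bv (congrArg Units.val hx)
    have := Subgroup.normal_le_normalCore.2 hle
    rw [core_borel hc] at this
    exact Subgroup.mem_bot.1 (this (show g ∈ f.ker from Units.ext hg))
  intro a b hab
  refine inv_mul_eq_one.1 (hK (a⁻¹ * b) ?_)
  rw [map_mul, ← hab, ← map_mul, inv_mul_cancel, map_one]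

end

end CfsgLib.ChevIsog
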