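import Cfsg.Agent.Lib.ChevIsog.Iso
import Cfsg.Agent.Lib.Chev.Comm

/-!
The tables of the exceptional isogenies of `B_2`, `F_4` and `G_2`.
-/

set_option autoImplicit false

namespace CfsgLib.ChevIsog

open Cfsg.Lie CfsgLib.Chev

/-- the data of `B_2` in characteristic 2 -/
def b2Data : IsoData where
  p := 2
  sh := [0, 1, 1, 0, 0, 1, 1, 0, 1, 0].map (fun n : ℕ => n == 1)
  b := [1, 0, 3, 2, 5, 4, 7, 6, 9, 8]

/-- the data of `F_4` in characteristic 2 -/
def f4Data : IsoData where
  p := 2
  sh := [0, 0, 0, 1, 0, 0, 0, 1, 1, 1, 1, 1, 1, 1, 1, 0, 0, 0, 1, 1, 1, 0, 0, 0, 0, 0, 0, 1, 1, 1, 0, 0, 0, 1, 1, 1, 1, 1, 1, 1, 1, 0, 0, 0, 1, 0, 0, 0, 1, 1, 0, 0].map (fun n : ℕ => n == 1)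
  b := [3, 7, 8, 0, 9, 11, 18, 1, 2, 4, 15, 5, 16, 21, 23, 10, 12, 19, 6, 17, 22, 13, 20, 14, 33, 27, 34, 25, 30, 41, 28, 35, 37, 24, 26, 31, 42, 32, 43, 45, 46, 29, 36, 38, 47, 39, 40, 44, 51, 50, 49, 48]

/-- the data of `G_2` in characteristic 3 -/
def g2Data : IsoData where
  p := 3
  sh := [0, 0, 1, 1, 1, 0, 0, 1, 1, 1, 0, 0, 1, 0].map (fun n : ℕ => n == 1)
  b := [2, 3, 0, 1, 5, 4, 7, 6, 10, 11, 8, 9, 13, 12]

/-- the exchange of the nodes of `B_2` -/
def b2Perm : Equiv.Perm (Fin chevB2.rank) := @Fin.revPerm chevB2.rank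

/-- the exchange of the nodes of `F_4` -/
def f4Perm : Equiv.Perm (Fin chevF4.rank) := @Fin.revPerm chevF4.rank

/-- the exchange of the nodes of `G_2` -/
def g2Perm : Equiv.Perm (Fin chevG2.rank) := @Fin.revPerm chevG2.rank

theorem gen_forall {D : ChevalleyDatum} {P : ℕ → Prop}
    (h : ∀ i : Fin D.rank, P (D.simple i.val) ∧ P (D.neg (D.simple i.val))) {r : ℕ} (hr : GenRoot D r) :
    P r := by
  obtain ⟨i, rfl | rfl⟩ := hr
  · exact (h i).1
  · exact (h i).2

/-- every fundamental root is, up to a factor, a difference of roots of either length -/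
noncomputable def spanCheck (D : ChevalleyDatum) (T : Tabs) (E : IsoData) : Bool :=
  allList (fun bv : Bool => allNat D.rank fun i => anyNat D.nroots fun r => anyNat D.nroots fun s =>
    anyNat 3 fun k => cond ((shC E r == bv) && (shC E s == bv))
      (allNat D.rank fun j =>
        decide (wt D T r j - wt D T s j = cond (Nat.beq j i) ((k + 1 : ℕ) : ℤ) 0)) false) [true, false]

theorem spanCheck_spec {D : ChevalleyDatum} {T : Tabs} {E : IsoData} (h : spanCheck D T E = true) :
    ∀ bv : Bool, ∀ i : Fin D.rank, ∃ r < D.nroots, ∃ s < D.nroots, ∃ k < 4, k ≠ 0 ∧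
      shC E r = bv ∧ shC E s = bv ∧
        ∀ j < D.rank, wt D T r j - wt D T s j = if j = i.val then (k : ℤ) else 0 := by
  intro bv i
  rw [spanCheck, allList_iff] at h
  have h := allNat_iff.1 (h bv (by cases bv <;> simp)) i.val i.2
  obtain ⟨r, hr, h⟩ := anyNat_iff.1 h
  obtain ⟨s, hs, h⟩ := anyNat_iff.1 h
  obtain ⟨k, hk, h⟩ := anyNat_iff.1 h
  rw [cond_false_iff, Bool.and_eq_true, beq_iff_eq, beq_iff_eq, allNat_iff] at h
  refine ⟨r, hr, s, hs, k + 1, by omega, by omega, h.1.1, h.1.2, fun j hj => ?_⟩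
  have h2 := h.2 j hj
  rw [decide_eq_true_iff, cond_beq] at h2
  exact h2

theorem b2_inv : ∀ i : Fin chevB2.rank, invCheck chevB2 B2.tabs b2Data (chevB2.simple i.val) = true ∧
    invCheck chevB2 B2.tabs b2Data (chevB2.neg (chevB2.simple i.val)) = true := by decide +kernel

theorem b2_mat : ∀ i : Fin chevB2.rank, matchCheck chevB2 B2.tabs b2Data (chevB2.simple i.val) = true ∧
    matchCheck chevB2 B2.tabs b2Data (chevB2.neg (chevB2.simple i.val)) = true := by decide +kernel

theorem g2_inv : ∀ i : Fin chevG2.rank, invCheck chevG2 G2.tabs g2Data (chevG2.simple i.val) = true ∧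
    invCheck chevG2 G2.tabs g2Data (chevG2.neg (chevG2.simple i.val)) = true := by decide +kernel

theorem g2_mat : ∀ i : Fin chevG2.rank, matchCheck chevG2 G2.tabs g2Data (chevG2.simple i.val) = true ∧
    matchCheck chevG2 G2.tabs g2Data (chevG2.neg (chevG2.simple i.val)) = true := by decide +kernel

theorem f4_inv : ∀ i : Fin chevF4.rank, invCheck chevF4 F4.tabs f4Data (chevF4.simple i.val) = true ∧
    invCheck chevF4 F4.tabs f4Data (chevF4.neg (chevF4.simple i.val)) = true := by decide +kernel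

theorem f4_mat : ∀ i : Fin chevF4.rank, matchCheck chevF4 F4.tabs f4Data (chevF4.simple i.val) = true ∧
    matchCheck chevF4 F4.tabs f4Data (chevF4.neg (chevF4.simple i.val)) = true := by decide +kernel

theorem b2_span : spanCheck chevB2 B2.tabs b2Data = true := by decide +kernel

theorem b2_ok : IsoOK chevB2 B2.tabs b2Data b2Perm where
  inv _ hr := gen_forall (P := fun r => invCheck chevB2 B2.tabs b2Data r = true) b2_inv hr
  span := spanCheck_spec b2_span
  prime := Or.inl rfl
  mat _ hr := gen_forall (P := fun r => matchCheck chevB2 B2.tabs b2Data r = true) b2_mat hr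
  maps := by decide +kernel
  surj := by decide +kernel
  inj := by decide +kernel
  node := by decide +kernel

theorem g2_span : spanCheck chevG2 G2.tabs g2Data = true := by decide +kernel

theorem g2_ok : IsoOK chevG2 G2.tabs g2Data g2Perm where
  inv _ hr := gen_forall (P := fun r => invCheck chevG2 G2.tabs g2Data r = true) g2_inv hr
  span := spanCheck_spec g2_span
  prime := Or.inr rfl
  mat _ hr := gen_forall (P := fun r => matchCheck chevG2 G2.tabs g2Data r = true) g2_mat hr
  maps := by decide +kernel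
  surj := by decide +kernel
  inj := by decide +kernel
  node := by decide +kernel

theorem f4_span : spanCheck chevF4 F4.tabs f4Data = true := by decide +kernel

theorem f4_ok : IsoOK chevF4 F4.tabs f4Data f4Perm where
  inv _ hr := gen_forall (P := fun r => invCheck chevF4 F4.tabs f4Data r = true) f4_inv hr
  span := spanCheck_spec f4_span
  prime := Or.inl rfl
  mat _ hr := gen_forall (P := fun r => matchCheck chevF4 F4.tabs f4Data r = true) f4_mat hr
  maps := by decide +kernel
  surj := by decide +kernel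
  inj := by decide +kernel
  node := by decide +kernel

theorem b2_tabs : Checked chevB2 B2.tabs ∧ CommOne chevB2 B2.tabs :=
  ⟨B2.checked, commOne_of_commCheck B2.checked B2.comm_ok B2.short_ok⟩

theorem f4_tabs : Checked chevF4 F4.tabs ∧ CommOne chevF4 F4.tabs :=
  ⟨F4.checked, commOne_of_commCheck F4.checked F4.comm_ok F4.short_ok⟩

theorem g2_tabs : Checked chevG2 G2.tabs ∧ CommOne chevG2 G2.tabs :=
  ⟨G2.checked, commOne_of_wordCheck G2.checked G2.comm_ok⟩

end CfsgLib.ChevIsog
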