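import Cfsg.Agent.Lib.ChevIsog.Block

/-!
The exceptional isogeny: the representation on the quotient is that on the ideal, composed with a
permutation of the roots and the corresponding powers of the arguments.
-/

set_option autoImplicit false
set_option linter.unusedSectionVars false

namespace CfsgLib.ChevIsog

open Cfsg.Lie CfsgLib.Chev
open CfsgLib.ChevGraph (gX coe_gX simpleGens group_le_closure_simpleGens)
open scoped Matrix

variable {D : ChevalleyDatum} {T : Tabs}

/-- the exponent attached to a root -/
def expo (E : IsoData) (r : ℕ) : ℕ := if shC E r then E.p else 1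

/-- the quotient part of `x_r` is the ideal part of `x_{b r}`, with the argument raised to `expo r` -/
noncomputable def matchCheck (D : ChevalleyDatum) (T : Tabs) (E : IsoData) (r : ℕ) : Bool :=
  allNat 3 fun k => allNat (D.nroots + D.rank) fun x => allNat (D.nroots + D.rank) fun y =>
    cond (!shC E x && !shC E y)
      (cond (dvdB E.p (entry D T (k + 1) r x y -
          cond (Nat.beq (Nat.mod (k + 1) (expo E r)) 0)
            (entry D T (Nat.div (k + 1) (expo E r)) (bC E r) (bC E x) (bC E y)) 0))
        (cond (Nat.blt 3 (expo E r * (k + 1))) (dvdB E.p (entry D T (k + 1) (bC E r) (bC E x) (bC E y))) true)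
        false) true

theorem matchCheck_spec {E : IsoData} {r : ℕ} (h : matchCheck D T E r = true) {k : ℕ}
    (hk : k = 1 ∨ k = 2 ∨ k = 3) {x y : D.Idx} (hx : shI D E x = false) (hy : shI D E y = false) :
    ((E.p : ℤ) ∣ tabMat D T k r x y - (if k % expo E r = 0 then
        entry D T (k / expo E r) (bC E r) (bC E (cd D x)) (bC E (cd D y)) else 0)) ∧
      (3 < expo E r * k → (E.p : ℤ) ∣ entry D T k (bC E r) (bC E (cd D x)) (bC E (cd D y))) := by
  rw [matchCheck, allNat_iff] at h
  have h := h (k - 1) (by omega)
  rw [allNat_iff] at h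
  have h := h (cd D x) (cd_lt x)
  rw [allNat_iff] at h
  have h := h (cd D y) (cd_lt y)
  rw [show shC E (cd D x) = false from hx, show shC E (cd D y) = false from hy,
    show k - 1 + 1 = k by omega] at h
  simp only [Bool.not_false, Bool.and_true, cond_true, cond_false_iff, cond_beq, cond_blt] at h
  refine ⟨dvdB_iff.1 h.1, fun h3 => ?_⟩
  have h2 := h.2
  rw [if_pos h3] at h2
  exact dvdB_iff.1 h2

/-- everything that has to be checked on the tables -/
structure IsoOK (D : ChevalleyDatum) (T : Tabs) (E : IsoData) (π : Equiv.Perm (Fin D.rank)) : Prop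
    extends IdealOK D T E where
  prime : E.p = 2 ∨ E.p = 3
  mat : ∀ r, GenRoot D r → matchCheck D T E r = true
  maps : ∀ c < D.nroots + D.rank, shC E c = false → bC E c < D.nroots + D.rank ∧ shC E (bC E c) = true
  surj : ∀ c < D.nroots + D.rank, shC E c = true →
    ∃ c' < D.nroots + D.rank, shC E c' = false ∧ bC E c' = c
  inj : ∀ c < D.nroots + D.rank, shC E c = false → ∀ c' < D.nroots + D.rank, shC E c' = false →
    bC E c = bC E c' → c = c'
  node : ∀ i : Fin D.rank, bC E (D.simple i.val) = D.simple (π i).val ∧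
    bC E (D.neg (D.simple i.val)) = D.neg (D.simple (π i).val) ∧
    shC E (D.neg (D.simple i.val)) = shC E (D.simple i.val)

section
variable {E : IsoData} {π : Equiv.Perm (Fin D.rank)} (hI : IsoOK D T E π)
include hI

theorem exists_partner (x : {z : D.Idx // shI D E z = false}) :
    ∃ y : {z : D.Idx // shI D E z = true}, cd D y.val = bC E (cd D x.val) := by
  obtain ⟨h1, h2⟩ := hI.maps _ (cd_lt x.val) x.2
  obtain ⟨y, hy⟩ := exists_cd h1
  exact ⟨⟨y, by rw [shI, hy]; exact h2⟩, hy⟩

/-- the bijection between the quotient and the ideal -/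
noncomputable def partner : {z : D.Idx // shI D E z = false} ≃ {z : D.Idx // shI D E z = true} :=
  Equiv.ofBijective (fun x => (exists_partner hI x).choose) ⟨fun x x' h => by
      have e := congrArg (fun z : {z : D.Idx // shI D E z = true} => cd D z.val) h
      simp only [(exists_partner hI x).choose_spec, (exists_partner hI x').choose_spec] at e
      exact Subtype.ext (cd_injective (hI.inj _ (cd_lt x.val) x.2 _ (cd_lt x'.val) x'.2 e)),
    fun y => by
      obtain ⟨c', hc', hs, hb⟩ := hI.surj _ (cd_lt y.val) y.2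
      obtain ⟨x, rfl⟩ := exists_cd hc'
      exact ⟨⟨x, hs⟩, Subtype.ext (cd_injective ((exists_partner hI ⟨x, hs⟩).choose_spec.trans hb))⟩⟩

theorem cd_partner (x : {z : D.Idx // shI D E z = false}) :
    cd D (partner hI x).val = bC E (cd D x.val) := (exists_partner hI x).choose_spec

theorem bC_gen {r : ℕ} (h : GenRoot D r) : GenRoot D (bC E r) := by
  obtain ⟨i, rfl | rfl⟩ := h
  · exact ⟨π i, Or.inl (hI.node i).1⟩
  · exact ⟨π i, Or.inr (hI.node i).2.1⟩

end

section
variable {F : Type*} [Field F] (hc : Checked D T) {E : IsoData} {π : Equiv.Perm (Fin D.rank)}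
  (hI : IsoOK D T E π) [CharP F E.p]
include hc hI

/-- the representation on the quotient, read on the ideal -/
noncomputable def twist :
    ↥(D.group F) →* Matrix {z : D.Idx // shI D E z = true} {z : D.Idx // shI D E z = true} F :=
  (Matrix.reindexAlgEquiv F F (partner hI)).toMonoidHom.comp (blk hc hI.toIdealOK false)

theorem twist_apply (g : ↥(D.group F)) (a b : {z : D.Idx // shI D E z = true}) :
    twist hc hI g a b = ((g : GL D.Idx F) : Matrix D.Idx D.Idx F) ((partner hI).symm a).val
      ((partner hI).symm b).val := rfl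

theorem twist_gX {r : ℕ} (hr : GenRoot D r) (t : F) :
    twist hc hI (gX hc (hr.lt hc) t) =
      blk hc hI.toIdealOK true (gX hc ((bC_gen hI hr).lt hc) (t ^ expo E r)) := by
  ext a b
  obtain ⟨x, rfl⟩ := (partner hI).surjective a
  obtain ⟨y, rfl⟩ := (partner hI).surjective b
  rw [twist_apply, Equiv.symm_apply_apply, Equiv.symm_apply_apply, blk_apply]
  change ((elX D F r t : GL D.Idx F) : Matrix D.Idx D.Idx F) x.val y.val =
    ((elX D F (bC E r) (t ^ expo E r) : GL D.Idx F) : Matrix D.Idx D.Idx F) (partner hI x).val (partner hI y).val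
  rw [coe_elX hc F (hr.lt hc), coe_elX hc F ((bC_gen hI hr).lt hc), xMat_eq hc F (hr.lt hc),
    xMat_eq hc F ((bC_gen hI hr).lt hc)]
  have hone : (1 : Matrix D.Idx D.Idx F) x.val y.val = (1 : Matrix D.Idx D.Idx F) (partner hI x).val (partner hI y).val := by
    by_cases h : x = y
    · subst h; rw [Matrix.one_apply_eq, Matrix.one_apply_eq]
    · rw [Matrix.one_apply_ne fun e => h (Subtype.ext e),
        Matrix.one_apply_ne fun e => h ((partner hI).injective (Subtype.ext e))]
  have h := fun k hk => matchCheck_spec (hI.mat r hr) (k := k) hk x.2 y.2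
  simp only [← cd_partner hI, ← tabMat_eq_entry] at h
  simp only [xTab, Matrix.add_apply, Matrix.smul_apply, Matrix.map_apply, smul_eq_mul, eq_intCast, hone]
  set A := fun k => tabMat D T k r x.val y.val with hA
  set B := fun k => tabMat D T k (bC E r) (partner hI x).val (partner hI y).val with hB
  have castEq : ∀ k, k = 1 ∨ k = 2 ∨ k = 3 →
      (A k : F) = if k % expo E r = 0 then (B (k / expo E r) : F) else 0 := fun k hk => by
    have h1 := (CharP.intCast_eq_zero_iff F E.p _).2 (h k hk).1
    rw [Int.cast_sub, sub_eq_zero] at h1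
    simp only [hA, hB]
    rw [h1]
    split <;> simp
  have castZero : ∀ k, k = 1 ∨ k = 2 ∨ k = 3 → 3 < expo E r * k → (B k : F) = 0 := fun k hk h3 =>
    (CharP.intCast_eq_zero_iff F E.p _).2 ((h k hk).2 h3)
  have c1 := castEq 1 (Or.inl rfl)
  have c2 := castEq 2 (Or.inr (Or.inl rfl))
  have c3 := castEq 3 (Or.inr (Or.inr rfl))
  simp only [hA, hB] at c1 c2 c3 castZero
  obtain he | he | he : expo E r = 1 ∨ expo E r = 2 ∨ expo E r = 3 := by
    rw [expo]
    split
    · exact Or.inr hI.prime
    · exact Or.inl rfl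
  all_goals
    rw [he] at c1 c2 c3 castZero ⊢
    norm_num at c1 c2 c3
    simp only [c1, c2, c3]
  · ring
  · rw [castZero 2 (by simp) (by norm_num), castZero 3 (by simp) (by norm_num)]
    ring
  · rw [castZero 2 (by simp) (by norm_num), castZero 3 (by simp) (by norm_num)]
    ring

end

section
variable {F : Type*} [Field F] (hc : Checked D T)
include hc

/-- a subgroup of the group holding the root elements of the fundamental roots and their negatives is
everything -/
theorem eq_top_of_gens {H : Subgroup ↥(D.group F)}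
    (h : ∀ r (hr : GenRoot D r) (t : F), gX hc (hr.lt hc) t ∈ H) : H = ⊤ := by
  rw [eq_top_iff]
  intro g _
  have hle : D.group F ≤ H.map (D.group F).subtype := by
    refine (group_le_closure_simpleGens hc).trans ((Subgroup.closure_le _).2 ?_)
    rintro _ ⟨i, t, rfl | rfl⟩
    · exact ⟨_, h _ ⟨i, Or.inl rfl⟩ t, rfl⟩
    · exact ⟨_, h _ ⟨i, Or.inr rfl⟩ t, rfl⟩
  obtain ⟨y, hy, e⟩ := hle g.2
  rwa [← Subtype.ext (show (y : GL D.Idx F) = g from e)]

end

section
variable {F : Type*} [Field F] (hc : Checked D T) (hcomm : CommOne D T) {E : IsoData}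
  {π : Equiv.Perm (Fin D.rank)} (hI : IsoOK D T E π) [CharP F E.p]
include hc hcomm hI

theorem twist_injective : Function.Injective (twist (F := F) hc hI) :=
  (Matrix.reindexAlgEquiv F F (partner hI)).injective.comp (blk_injective hc hcomm hI.toIdealOK false)

/-- the isogeny is an automorphism over a perfect field -/
theorem exists_isogeny (hperf : ∀ x : F, ∃ y : F, y ^ E.p = x) :
    ∃ α : MulAut ↥(D.group F), ∀ r (hr : GenRoot D r) (t : F),
      α (gX hc (hr.lt hc) t) = gX hc ((bC_gen hI hr).lt hc) (t ^ expo E r) := by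
  let f := (blk (F := F) hc hI.toIdealOK true).toHomUnits
  let g := (twist (F := F) hc hI).toHomUnits
  have hf : Function.Injective f := fun a b e =>
    blk_injective hc hcomm hI.toIdealOK true (congrArg Units.val e)
  have hg : Function.Injective g := fun a b e => twist_injective hc hcomm hI (congrArg Units.val e)
  have key : ∀ r (hr : GenRoot D r) (t : F),
      g (gX hc (hr.lt hc) t) = f (gX hc ((bC_gen hI hr).lt hc) (t ^ expo E r)) :=
    fun r hr t => Units.ext (twist_gX hc hI hr t)
  have hgf : g.range ≤ f.range := by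
    rw [MonoidHom.range_eq_map, Subgroup.map_le_iff_le_comap]
    exact (eq_top_of_gens hc (H := f.range.comap g) fun r hr t => Subgroup.mem_comap.2 ⟨_, (key r hr t).symm⟩).ge
  have hfg : f.range ≤ g.range := by
    rw [MonoidHom.range_eq_map, Subgroup.map_le_iff_le_comap]
    refine (eq_top_of_gens hc fun s hs u => ?_).ge
    obtain ⟨i, hi⟩ := hs
    obtain ⟨j, rfl⟩ := π.surjective i
    obtain ⟨r, hr, hbr⟩ : ∃ r, GenRoot D r ∧ bC E r = s := by
      rcases hi with rfl | rfl
      · exact ⟨_, ⟨j, Or.inl rfl⟩, (hI.node j).1⟩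
      · exact ⟨_, ⟨j, Or.inr rfl⟩, (hI.node j).2.1⟩
    subst hbr
    obtain ⟨y, hy⟩ : ∃ y : F, y ^ expo E r = u := by
      rw [expo]
      split
      · exact hperf u
      · exact ⟨u, pow_one u⟩
    exact ⟨gX hc (hr.lt hc) y, by rw [key r hr, hy]⟩
  let α : MulAut ↥(D.group F) :=
    ((MonoidHom.ofInjective hg).trans (MulEquiv.subgroupCongr (le_antisymm hgf hfg))).trans
      (MonoidHom.ofInjective hf).symm
  have hα : ∀ x, f (α x) = g x := fun x => by
    have := congrArg Subtype.val ((MonoidHom.ofInjective hf).apply_symm_apply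
      (MulEquiv.subgroupCongr (le_antisymm hgf hfg) (MonoidHom.ofInjective hg x)))
    exact this
  exact ⟨α, fun r hr t => hf ((hα _).trans (key r hr t))⟩

end

end CfsgLib.ChevIsog
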